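import Mathlib

/-! helper7: a local ring essentially of finite type over a field `k` is the localization at a
maximal ideal of an algebra of finite type over a purely transcendental extension of `k`
(lift a transcendence basis of the residue field). -/

set_option linter.style.haveILetI false
set_option linter.unusedVariables false
set_option linter.unusedSectionVars false
set_option linter.overlappingInstances false

open IsLocalRing

namespace Groth.Agent.Helper7.EssField

universe u

theorem main (k : Type u) [Field k] (S : Type u) [CommRing S] [IsLocalRing S]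
    [Algebra k S] [Algebra.EssFiniteType k S] :
    ∃ (K : Type u) (_ : Field K) (_ : Algebra k K) (A : Type u) (_ : CommRing A)
      (_ : Algebra K A) (_ : Algebra k A) (_ : IsScalarTower k K A) (_ : Algebra.FiniteType K A)
      (m : Ideal A) (_ : m.IsMaximal), Nonempty (S ≃ₐ[k] Localization.AtPrime m) := by
  classical
  obtain ⟨σ, hσ⟩ := (Algebra.essFiniteType_iff (R := k) (S := S)).1 inferInstance
  set res : S →+* ResidueField S := residue S with hres
  obtain ⟨ι, xbar, hx⟩ := exists_isTranscendenceBasis' k (ResidueField S)
  have hai : AlgebraicIndependent k xbar := hx.1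
  choose x hxres using fun i => IsLocalRing.residue_surjective (xbar i)
  set ev : MvPolynomial ι k →ₐ[k] S := MvPolynomial.aeval x with hev
  have hres_ev : ∀ f, res (ev f) = MvPolynomial.aeval xbar f := by
    intro f
    have h1 : (IsScalarTower.toAlgHom k S (ResidueField S)).comp ev = MvPolynomial.aeval xbar := by
      apply MvPolynomial.algHom_ext
      intro i
      simp only [AlgHom.comp_apply, hev, MvPolynomial.aeval_X]
      exact hxres i
    exact congr_arg (fun g => g f) h1
  have hunit : ∀ y : nonZeroDivisors (MvPolynomial ι k), IsUnit (ev.toRingHom y) := by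
    intro y
    by_contra hns
    have h1 : res (ev y) = 0 := (IsLocalRing.residue_eq_zero_iff _).2 hns
    rw [hres_ev] at h1
    have h2 : (y : MvPolynomial ι k) = 0 := by
      apply hai
      rw [h1, map_zero]
    exact nonZeroDivisors.coe_ne_zero y h2
  set K := FractionRing (MvPolynomial ι k) with hK
  set ℓ : K →+* S := IsLocalization.lift (M := nonZeroDivisors (MvPolynomial ι k)) hunit with hℓ
  have hℓalg : ∀ f, ℓ (algebraMap (MvPolynomial ι k) K f) = ev f := fun f =>
    IsLocalization.lift_eq _ f
  letI : Algebra K S := ℓ.toAlgebra
  haveI : IsScalarTower k K S := IsScalarTower.of_algebraMap_eq (fun r => by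
    show algebraMap k S r = ℓ (algebraMap k K r)
    rw [IsScalarTower.algebraMap_apply k (MvPolynomial ι k) K, hℓalg, AlgHom.commutes])
  letI : Algebra K (ResidueField S) := (res.comp ℓ).toAlgebra
  haveI : IsScalarTower K S (ResidueField S) := IsScalarTower.of_algebraMap_eq (fun r => rfl)
  -- algebraicity of the residue field over K
  haveI halg0 : Algebra.IsAlgebraic (Algebra.adjoin k (Set.range xbar)) (ResidueField S) :=
    hx.isAlgebraic
  haveI halg : Algebra.IsAlgebraic K (ResidueField S) := by
    let f : Algebra.adjoin k (Set.range xbar) →+* K :=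
      (algebraMap (MvPolynomial ι k) K).comp (hai.aevalEquiv.symm : _ →+* MvPolynomial ι k)
    refine Algebra.IsAlgebraic.ringHom_of_comp_eq (R := Algebra.adjoin k (Set.range xbar))
      (A := ResidueField S) f (RingHom.id (ResidueField S)) ?_ Function.surjective_id ?_
    · exact (IsFractionRing.injective (MvPolynomial ι k) K).comp hai.aevalEquiv.symm.injective
    · ext a
      obtain ⟨g, rfl⟩ := hai.aevalEquiv.surjective a
      have h1 : f (hai.aevalEquiv g) = algebraMap (MvPolynomial ι k) K g := by
        show algebraMap (MvPolynomial ι k) K (hai.aevalEquiv.symm (hai.aevalEquiv g)) = _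
        rw [hai.aevalEquiv.symm_apply_apply g]
      show algebraMap K (ResidueField S) (f (hai.aevalEquiv g)) =
        algebraMap (Algebra.adjoin k (Set.range xbar)) (ResidueField S) (hai.aevalEquiv g)
      rw [h1, hai.algebraMap_aevalEquiv]
      show res (ℓ (algebraMap (MvPolynomial ι k) K g)) = _
      rw [hℓalg, hres_ev]
  -- the finite type algebra
  set B : Subalgebra K S := Algebra.adjoin K (σ : Set S) with hB
  have hkB : ∀ z ∈ Algebra.adjoin k (σ : Set S), z ∈ B := by
    intro z hz
    induction hz using Algebra.adjoin_induction with
    | mem x hx => exact Algebra.subset_adjoin hx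
    | algebraMap r =>
      rw [IsScalarTower.algebraMap_apply k K S]
      exact Subalgebra.algebraMap_mem _ _
    | add x y _ _ hx hy => exact B.add_mem hx hy
    | mul x y _ _ hx hy => exact B.mul_mem hx hy
  haveI hft : Algebra.FiniteType K B := (Subalgebra.fg_iff_finiteType B).1
    (Subalgebra.fg_adjoin_finset σ)
  let π : B →ₐ[K] ResidueField S := (IsScalarTower.toAlgHom K S (ResidueField S)).comp B.val
  letI : Field π.range := (Subalgebra.isField_of_algebraic π.range).toField
  set q : Ideal B := RingHom.ker π.rangeRestrict with hq
  haveI hqmax : q.IsMaximal :=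
    RingHom.ker_isMaximal_of_surjective π.rangeRestrict π.rangeRestrict_surjective
  have hqmem : ∀ b : B, b ∈ q ↔ ¬ IsUnit (b : S) := by
    intro b
    rw [hq, RingHom.mem_ker]
    constructor
    · intro h
      have h1 : res (b : S) = 0 := congr_arg Subtype.val h
      exact (IsLocalRing.residue_eq_zero_iff _).1 h1
    · intro h
      apply Subtype.ext
      exact (IsLocalRing.residue_eq_zero_iff _).2 h
  haveI hloc : IsLocalization q.primeCompl S := by
    rw [isLocalization_iff]
    refine ⟨?_, ?_, ?_⟩
    · intro y
      by_contra hns
      exact y.2 ((hqmem y).2 hns)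
    · intro z
      obtain ⟨t, ht, htu, hzt⟩ := hσ z
      refine ⟨⟨⟨z * t, hkB _ hzt⟩, ⟨⟨t, hkB _ ht⟩, ?_⟩⟩, rfl⟩
      show (⟨t, hkB _ ht⟩ : B) ∉ q
      rw [hqmem]
      exact not_not.2 htu
    · intro a b hab
      exact ⟨1, by rw [Subtype.ext hab]⟩
  refine ⟨K, inferInstance, inferInstance, B, inferInstance, inferInstance, inferInstance,
    inferInstance, hft, q, hqmax, ⟨?_⟩⟩
  exact (IsLocalization.algEquiv q.primeCompl S (Localization.AtPrime q)).restrictScalars k

end Groth.Agent.Helper7.EssField
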